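import Groth.Agent.Lib.K3Ext28.Vanish
import Groth.Agent.Lib.QuotTan26.Classify
import Groth.Agent.Lib.Euler.Scalar
import Mathlib.Algebra.Category.ModuleCat.Ext.HasExt
import Mathlib.Algebra.Homology.DerivedCategory.Ext.Map
import Mathlib.Algebra.Homology.DerivedCategory.Ext.EnoughProjectives

/-!
# Extensions which are not locally free
-/

set_option autoImplicit false
set_option linter.style.haveILetI false
set_option linter.unusedSectionVars false
set_option maxHeartbeats 1000000
set_option backward.isDefEq.respectTransparency.types false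

universe u

open CategoryTheory CategoryTheory.Limits AlgebraicGeometry
open CategoryTheory.Abelian (Ext)
open GrothLib.Ref1 (sp hη Gen)

noncomputable section

namespace GrothLib.K3Ext28

/-- The pushout of a short exact sequence. -/
theorem exists_pushout_seq {C : Type*} [Category C] [Abelian C] {K P N : C} {i : K ⟶ P} {p : P ⟶ N}
    {w₀ : i ≫ p = 0} (hS : (ShortComplex.mk i p w₀).ShortExact) {L : C} (g : K ⟶ L) :
    ∃ (V : C) (a : L ⟶ V) (b : V ⟶ N) (w : a ≫ b = 0) (q : P ⟶ V),
      (ShortComplex.mk a b w).ShortExact ∧ i ≫ q = g ≫ a ∧ q ≫ b = p := by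
  haveI : Mono i := hS.mono_f
  haveI : Epi p := hS.epi_g
  let V := pushout i g
  let a : L ⟶ V := pushout.inr i g
  let b : V ⟶ N := pushout.desc p 0 (by simp [w₀])
  have hb1 : pushout.inl i g ≫ b = p := pushout.inl_desc _ _ _
  have hb2 : a ≫ b = 0 := pushout.inr_desc _ _ _
  haveI : Epi b := by
    haveI : Epi (pushout.inl i g ≫ b) := by rw [hb1]; infer_instance
    exact epi_of_epi (pushout.inl i g) b
  refine ⟨V, a, b, hb2, pushout.inl i g, ?_, pushout.condition, hb1⟩
  refine ShortComplex.ShortExact.mk' (ShortComplex.exact_of_g_is_cokernel _ ?_) inferInstance inferInstance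
  refine CokernelCofork.IsColimit.ofπ' b hb2 fun {T} h hh => ⟨hS.exact.desc (pushout.inl i g ≫ h) ?_, ?_⟩
  · show i ≫ pushout.inl i g ≫ h = 0
    rw [← Category.assoc, pushout.condition, Category.assoc]
    change g ≫ a ≫ h = 0
    rw [hh, Limits.comp_zero]
  · apply pushout.hom_ext
    · rw [← Category.assoc, hb1]
      exact hS.exact.g_desc _ _
    · rw [← Category.assoc]
      change (a ≫ b) ≫ _ = a ≫ h
      rw [hb2, Limits.zero_comp, hh]

universe v

theorem extClass_generates {R : Type v} [CommRing R] {T : ShortComplex (ModuleCat.{v} R)} (hT : T.ShortExact)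
    (hfree : Module.Free R T.X₂) {e : T.X₁} (he : Function.Surjective fun r : R => r • e)
    (y : Ext T.X₃ T.X₁ 1) : ∃ c : R, y = c • hT.extClass := by
  haveI := hfree
  haveI : Projective T.X₂ := (IsProjective.iff_projective T.X₂).1 inferInstance
  obtain ⟨x, hx⟩ := Ext.contravariant_sequence_exact₃ hT (Y := T.X₁) y (Ext.eq_zero_of_projective _) (n₀ := 0) rfl
  obtain ⟨h, rfl⟩ := Ext.homEquiv₀.symm.surjective x
  obtain ⟨c, hc⟩ := he (h.hom e)
  refine ⟨c, ?_⟩
  have hh : h = c • 𝟙 T.X₁ := by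
    refine ModuleCat.hom_ext (LinearMap.ext fun v => ?_)
    obtain ⟨d, rfl⟩ := he v
    show h.hom (d • e) = c • (d • e)
    rw [map_smul, ← show c • e = h.hom e from hc, smul_comm]
  rw [← hx, Ext.smul_eq_comp_mk₀, ← hh]
  rfl

theorem free_finite_of_extClass_eq_zero {R : Type v} [CommRing R] [IsLocalRing R] {T : ShortComplex (ModuleCat.{v} R)}
    (hT : T.ShortExact) (hfree : Module.Free R T.X₂) (hfin : Module.Finite R T.X₂) (h : hT.extClass = 0) :
    Module.Free R T.X₃ ∧ Module.Finite R T.X₃ := by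
  haveI := hfree
  haveI := hfin
  obtain ⟨x, hx⟩ := Ext.covariant_sequence_exact₃ T.X₃ hT (Ext.mk₀ (𝟙 _)) (n₁ := 1) rfl
    (by rw [Ext.mk₀_id_comp]; exact h)
  obtain ⟨σ, rfl⟩ := Ext.homEquiv₀.symm.surjective x
  change (Ext.mk₀ σ).comp (Ext.mk₀ T.g) _ = _ at hx
  rw [Ext.mk₀_comp_mk₀] at hx
  have hsplit : T.g.hom.comp σ.hom = LinearMap.id :=
    congrArg ModuleCat.Hom.hom (Ext.homEquiv₀.symm.injective hx)
  haveI : Module.Projective R T.X₃ := Module.Projective.of_split σ.hom T.g.hom hsplit
  haveI hf : Module.Finite R T.X₃ :=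
    Module.Finite.of_surjective T.g.hom fun v => ⟨σ.hom v, LinearMap.congr_fun hsplit v⟩
  haveI : Module.Flat R T.X₃ := Module.Flat.of_projective
  exact ⟨Module.free_of_flat_of_isLocalRing, hf⟩

variable {X : Scheme.{u}}

theorem free_stalk_of_isFinLocFree {V : X.Modules} (hV : FlatMod.IsFinLocFree V) (x : X) :
    Module.Free (X.presheaf.stalk x) (V.presheaf.stalk x) ∧
      Module.Finite (X.presheaf.stalk x) (V.presheaf.stalk x) := by
  obtain ⟨U, n, e, hx, he⟩ := FinCov.exists_frame_nhd hV x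
  obtain ⟨b⟩ := Euler.stalk_basis_of_frame he hx
  exact ⟨Module.Free.of_basis b, Module.Finite.of_basis b⟩

variable {k : Type u} [Field k] [X.Over (Spec (CommRingCat.of k))]
  [IsProper (X ↘ Spec (CommRingCat.of k))] [IsIntegral X] [Smooth (X ↘ Spec (CommRingCat.of k))]

include k in
/-- Extensions between invertible modules split when `H¹` of invertible modules vanishes. -/
theorem ext_one_subsingleton [IsAlgClosed k] [PicGrp.Law X] [HasExt.{u} X.Modules]
    (hH1 : ∀ M : X.Modules, PicF.IsInvertible M → Subsingleton (Ext (Coh.structureModule X) M 1))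
    {A B : X.Modules} (hA : PicF.IsInvertible A) (hB : PicF.IsInvertible B) : Subsingleton (Ext A B 1) := by
  haveI := Euler.isNoetherian_of_proper (X := X) k
  obtain ⟨K, hKi, hKinv⟩ := VA.exists_inverse hA
  have hM := Ample.isInvertible_tensorMod hKi hB
  have hU := Ample.isInvertible_tensorMod hA hM
  obtain ⟨u⟩ : Nonempty (CohB1.tensorMod A (CohB1.tensorMod K B) ≅ B) := by
    refine (PicGrp.cls_eq_cls_iff hU hB).1 ?_
    have h1 : PicGrp.cls A hA * PicGrp.cls K hKi = 1 := (PicGrp.cls_mul_cls_eq_one_iff hA hKi).2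
      ((Cube.clsMod_eq_one_iff (Ample.isInvertible_tensorMod hA hKi)).1 (by
        rw [Cube.clsMod_tensorMod hA hKi, hKinv, mul_inv_cancel]))
    rw [cls_tensor hA hM, cls_tensor hKi hB, ← mul_assoc, h1, one_mul]
  haveI := LocFreeHom.hasSheafHom A
  haveI := FundIso27.isEquivalence_tensor hA
  haveI : ((DCoh.tensorBi (X := X)).obj A).IsEquivalence :=
    Functor.isEquivalence_of_iso ((OX.tensorBraiding (X := X)).app A)
  let M := CohB1.tensorMod K B
  let v : ((DCoh.tensorBi (X := X)).obj A).obj M ≅ B := u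
  let e : (DCoh.sheafHom A).obj B ≅ M :=
    (DCoh.sheafHom A).mapIso v.symm ≪≫ (asIso ((DCoh.sheafHomAdj A).unit.app M)).symm
  obtain ⟨a⟩ := SerrePn27.nonempty_ext_linearEquiv_HH_of_finLocFree (k := k)
    (Euler.isFinLocFree_of_isInvertible hA) 1 B
  obtain ⟨b⟩ := nonempty_ext_HH (k := k) M
  haveI := hH1 _ hM
  haveI := b.symm.toEquiv.subsingleton
  exact (a ≪≫ₗ SerrePn27.hhMapEquiv (k := k) e 1).toEquiv.subsingleton

include k in
/-- At a point of the colength, a submodule of finite colength of an invertible module is not free. -/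
theorem not_free_stalk (hdim : topologicalKrullDim X = ((2 : ℕ) : WithBot ℕ∞)) {N L' : X.Modules}
    (hNc : Coh.IsCoh N) (hL' : PicF.IsInvertible L') (ι : N ⟶ L') [Mono ι]
    (hd : GrothLib.Snapper.DimLT (CohB1.support (cokernel ι)) 1) {z : X} (hz : z ∈ CohB1.support (cokernel ι)) :
    ¬ (Module.Free (X.presheaf.stalk z) (N.presheaf.stalk z) ∧
      Module.Finite (X.presheaf.stalk z) (N.presheaf.stalk z)) := by
  rintro ⟨hfree, hfin⟩
  haveI := Euler.isNoetherian_of_proper (X := X) k
  haveI := hNc.1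
  have hN := Hilb20.isNormalScheme_of_smooth (X := X) k
  haveI : IsDomain (X.presheaf.stalk z) := (hN z).1
  have hL'c := Euler.isCoh_of_isInvertible hL'
  haveI := hL'c.1
  have hspL := Ref1.injective_sp_of_isRef1 hN (FacDiv.isRef1_of_isInvertible hL')
  have hinj : ∀ x, Function.Injective (RefHull.stalkMapₗ ι x) := fun x => QCoh.stalkLin_injective ι x
  have hspN : ∀ x, Function.Injective (sp N (hη x)) := fun x v v' h => by
    apply hinj x
    apply hspL x
    rw [← Ref1.stalkMapₗ_sp, ← Ref1.stalkMapₗ_sp, h]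
  have hcl := QCoh.isClosed_support_of_isCoh (QCoh.isCoh_cokernel ι hNc hL'c)
  have hsurj : ∀ x, x ∉ CohB1.support (cokernel ι) → Function.Surjective (RefHull.stalkMapₗ ι x) := by
    intro x hx v
    haveI := QCoh.stalk_subsingleton_of_notMem hx
    have he := (OX.exact_iff (ShortComplex.mk ι (cokernel.π ι) (cokernel.condition ι))).1
      (ShortComplex.exact_cokernel ι) x
    rw [ShortComplex.moduleCat_exact_iff] at he
    exact he v (Subsingleton.elim (α := (cokernel ι).presheaf.stalk x) _ _)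
  have hη' : genericPoint X ∉ CohB1.support (cokernel ι) := fun hmem => by
    rcases generic_notMem (k := k) hdim hN (fun l hl => (hd l hl).trans_le one_le_two) with h | h
    · exact h (subset_closure hmem)
    · exact h hcl
  obtain ⟨eη, heη⟩ := Ref1.exists_gen_of_isInvertible hL' (genericPoint X)
  obtain ⟨eN, heN⟩ := hsurj _ hη' eη
  have hgη : Gen N (genericPoint X) eN := by
    refine ⟨fun a b hab => heη.1 ?_, fun w => ?_⟩
    · dsimp only at hab ⊢
      rw [← heN, ← map_smul, ← map_smul, hab]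
    · obtain ⟨c, hc⟩ := heη.2 (RefHull.stalkMapₗ ι _ w)
      refine ⟨c, hinj _ ?_⟩
      rw [map_smul, heN]
      exact hc
  have hne : Nontrivial (N.presheaf.stalk (genericPoint X)) := by
    refine ⟨eN, 0, fun h => one_ne_zero (α := X.presheaf.stalk (genericPoint X)) (hgη.1 ?_)⟩
    show (1 : X.presheaf.stalk (genericPoint X)) • eN = (0 : X.presheaf.stalk (genericPoint X)) • eN
    rw [h, smul_zero, smul_zero]
  have hzN : Nontrivial (N.presheaf.stalk z) := not_subsingleton_iff_nontrivial.1 fun hsub =>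
    (hη z).mem_open (QCoh.isClosed_support_of_isCoh hNc).isOpen_compl
      (fun h : z ∈ CohB1.support N => h hsub) (not_subsingleton_iff_nontrivial.2 hne)
  -- a generator at `z`
  obtain ⟨eL, heL⟩ := Ref1.exists_gen_of_isInvertible hL' z
  let b := Module.Free.chooseBasis (X.presheaf.stalk z) (N.presheaf.stalk z)
  have hsub : ∀ i j : Module.Free.ChooseBasisIndex (X.presheaf.stalk z) (N.presheaf.stalk z), i = j := by
    intro i j
    by_contra hij
    obtain ⟨ci, hci⟩ := heL.2 (RefHull.stalkMapₗ ι z (b i))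
    obtain ⟨cj, hcj⟩ := heL.2 (RefHull.stalkMapₗ ι z (b j))
    have h0 : cj • b i - ci • b j = 0 := hinj z (by
      rw [map_sub, map_smul, map_smul, map_zero, ← hci, ← hcj, smul_smul, smul_smul, mul_comm, sub_self])
    have h1 := congrArg (fun v => b.repr v i) h0
    simp [Ne.symm hij] at h1
    subst h1
    simp only [zero_smul] at hcj
    exact b.ne_zero j (hinj z (by rw [map_zero]; exact hcj.symm))
  haveI : Subsingleton (Module.Free.ChooseBasisIndex (X.presheaf.stalk z) (N.presheaf.stalk z)) := ⟨hsub⟩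
  obtain ⟨i₀⟩ := b.index_nonempty
  have hgz : Gen N z (b i₀) := by
    haveI := uniqueOfSubsingleton i₀
    refine ⟨fun a c hac => ?_, fun w => ⟨b.repr w i₀, b.repr.injective (Finsupp.ext fun j => by
      simp [hsub j i₀])⟩⟩
    have := congrArg (fun v => b.repr v i₀) hac
    simpa using this
  -- the map to the bidual
  have hrel := HomSh.hasRel_of_isCoh hNc
  let β := RefHull.bidualMap N
  have hR := Ref1.isRef1_ddual hrel hgη
  have hβz := (HomSh.bijective_bidual_iff hrel z).2 (FacDiv.isReflexiveAt_of_gen hgz)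
  have hβη := (HomSh.bijective_bidual_iff hrel _).2 (FacDiv.isReflexiveAt_of_gen hgη)
  let E := LinearEquiv.ofBijective (RefHull.stalkMapₗ ι (genericPoint X)) ⟨hinj _, hsurj _ hη'⟩
  haveI := hR.1.1
  obtain ⟨ψ, hψ⟩ := Ref1.exists_hom_of_dim_one (G := L') (H := RefHull.ddual N) hN (HomSh.hasRel_of_isCoh hR.1)
      hR.2.1 ((RefHull.stalkMapₗ β (genericPoint X)).comp E.symm.toLinearMap) fun x hx v => by
    obtain ⟨c, hc⟩ := hsurj x (fun hmem => by
      have := Hilb20.dim_stalk_two_le (X ↘ Spec (CommRingCat.of k)) hdim hcl rfl hd hmem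
      rw [hx] at this
      exact absurd this (by decide)) v
    refine ⟨RefHull.stalkMapₗ β x c, ?_⟩
    rw [← Ref1.stalkMapₗ_sp]
    show RefHull.stalkMapₗ β _ (sp N (hη x) c) = RefHull.stalkMapₗ β _ (E.symm _)
    congr 1
    refine E.injective ?_
    rw [E.apply_symm_apply]
    show RefHull.stalkMapₗ ι _ (sp N (hη x) c) = _
    rw [Ref1.stalkMapₗ_sp, hc]
  have hιψ : ι ≫ ψ = β := Ref1.hom_ext_generic (Ref1.injective_sp_of_isRef1 hN hR) (LinearMap.ext fun v => by
    rw [Ref1.stalkMapₗ_comp, LinearMap.comp_apply, hψ]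
    show RefHull.stalkMapₗ β _ (E.symm (E v)) = _
    rw [E.symm_apply_apply])
  have hψinj : Function.Injective (RefHull.stalkMapₗ ψ z) := fun v v' h => by
    apply hspL z
    apply E.symm.injective
    apply hβη.1
    have := congrArg (sp (RefHull.ddual N) (hη z)) h
    rw [← Ref1.stalkMapₗ_sp, ← Ref1.stalkMapₗ_sp, hψ] at this
    exact this
  refine QCoh.notMem_support_cokernel_of_surjective ι (fun v => ?_) hz
  obtain ⟨u, hu⟩ := hβz.2 (RefHull.stalkMapₗ ψ z v)
  refine ⟨u, hψinj ?_⟩
  show RefHull.stalkMapₗ ψ z (RefHull.stalkMapₗ ι z u) = _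
  rw [← LinearMap.comp_apply, ← Ref1.stalkMapₗ_comp, hιψ]
  exact hu

omit [IsProper (X ↘ Spec (CommRingCat.of k))] [IsIntegral X] [Smooth (X ↘ Spec (CommRingCat.of k))] in
/-- Stalks of scalar endomorphisms. -/
theorem stalk_map_smul (M : X.Modules) (c : k) (x : X) :
    (OX.stalk x).map (c • 𝟙 M) =
      (X.presheaf.germ ⊤ x trivial (Coh.toGlobal (X ↘ Spec (CommRingCat.of k)) c) : X.presheaf.stalk x) •
        𝟙 ((OX.stalk x).obj M) := by
  rw [KLin.smul_id]
  refine ModuleCat.hom_ext (LinearMap.ext fun e => ?_)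
  exact QuotTan26.stalkLin_smulModΓ M _ x e

end GrothLib.K3Ext28
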