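import Groth.Agent.Lib.DecSh20.MuExt
import Groth.Agent.Lib.DualSm27.Serre
import Groth.Agent.Lib.SurfRR28.Effective
import Groth.Agent.Lib.BddReg26.Quotient
import Groth.Agent.Lib.LefAmp7.Hom
import Groth.Agent.Lib.SerrePn27.HomTwist
import Groth.Agent.Lib.VA.Powers
import Groth.Prelude.Def_ShStab

/-!
# Rank two bundles on a surface with trivial canonical class
-/

set_option autoImplicit false
set_option linter.style.haveILetI false
set_option linter.unusedSectionVars false
set_option maxHeartbeats 1000000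
set_option backward.isDefEq.respectTransparency.types false

universe u

open CategoryTheory CategoryTheory.Limits AlgebraicGeometry Polynomial
open GrothLib.Snapper (DimLT)
open GrothLib.Ref1 (sp hη Gen)
open GrothLib.Hilb20 (alpha_add)
open StabCat (alpha)

noncomputable section

namespace GrothLib.K3Ext28

variable {X : Scheme.{u}} {k : Type u} [Field k] [X.Over (Spec (CommRingCat.of k))]
  [IsProper (X ↘ Spec (CommRingCat.of k))]

attribute [local irreducible] Curv2.euler

theorem coeff_one_le_of_polyLT {P Q : ℚ[X]} (hP : P.degree < (3 : ℕ)) (hQ : Q.degree < (3 : ℕ))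
    (h2 : P.coeff 2 = Q.coeff 2) (h : StabCat.PolyLT P Q) : P.coeff 1 ≤ Q.coeff 1 := by
  by_contra hlt
  push Not at hlt
  obtain ⟨N, hN⟩ := h
  obtain ⟨m, hm⟩ := exists_nat_gt (max (N : ℚ) ((Q.coeff 0 - P.coeff 0) / (P.coeff 1 - Q.coeff 1)))
  have hmN : N ≤ m := by exact_mod_cast ((le_max_left _ _).trans_lt hm).le
  have hmr := (le_max_right _ _).trans_lt hm
  rw [div_lt_iff₀ (sub_pos.2 hlt)] at hmr
  have hev : ∀ R : ℚ[X], R.degree < (3 : ℕ) →
      R.eval (m : ℚ) = R.coeff 0 + R.coeff 1 * m + R.coeff 2 * (m : ℚ) ^ 2 := fun R hR => by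
    by_cases h0 : R = 0
    · simp [h0]
    rw [eval_eq_sum_range' (n := 3) ((natDegree_lt_iff_degree_lt h0).2 hR)]
    simp [Finset.sum_range_succ]
  have := hN m hmN
  rw [hev P hP, hev Q hQ, h2] at this
  nlinarith

variable [IsIntegral X]

include k in
theorem exists_hom_generic_ne_zero {L N : X.Modules} (hL : CohB1.IsAmple L) (hN : Coh.IsCoh N)
    (h : genericPoint X ∈ CohB1.support N) :
    ∃ (M : X.Modules) (_ : PicF.IsInvertible M) (q : M ⟶ N),
      ∃ v, RefHull.stalkMapₗ q (genericPoint X) v ≠ 0 := by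
  haveI := Euler.isNoetherian_of_proper (X := X) k
  obtain ⟨M, hMi, hM⟩ := VA.exists_inverse hL.1
  obtain ⟨n₀, hn⟩ := BddReg26.exists_epi_free_tensorPow hL hN
  obtain ⟨r, p, hp⟩ := hn n₀ le_rfl
  have hLn := Ample.isInvertible_tensorPow hL.1 n₀
  have hMn := Ample.isInvertible_tensorPow hMi n₀
  obtain ⟨u⟩ : Nonempty (CohB1.tensorMod (CohB1.tensorPow L n₀) (CohB1.tensorPow M n₀) ≅ Coh.structureModule X) :=
    (Cube.clsMod_eq_one_iff (Ample.isInvertible_tensorMod hLn hMn)).1 (by
      rw [Cube.clsMod_tensorMod hLn hMn, Cube.clsMod_tensorPow hL.1, Cube.clsMod_tensorPow hMi, hM, inv_pow,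
        mul_inv_cancel])
  haveI := hp
  let T := DCoh.tensorBi (X := X)
  let G := T.flip.obj (CohB1.tensorPow M n₀)
  haveI : PreservesColimitsOfSize.{0, 0} G := inferInstance
  haveI : G.PreservesEpimorphisms := inferInstance
  haveI : G.Additive := inferInstance
  let a : G.obj (CohB1.tensorMod N (CohB1.tensorPow L n₀)) ≅ N :=
    OX.tensorAssoc N (CohB1.tensorPow L n₀) (CohB1.tensorPow M n₀) ≪≫ (T.obj N).mapIso u ≪≫
      LocFreeDual20.unitR N
  let q : G.obj (FlatMod.freeMod X r) ⟶ N := G.map p ≫ a.hom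
  haveI : Epi q := epi_comp _ _
  obtain ⟨e⟩ : Nonempty (G.obj (Coh.structureModule X) ≅ CohB1.tensorPow M n₀) :=
    ⟨OX.tensorUnitLeftIso _⟩
  haveI : Nontrivial (N.presheaf.stalk (genericPoint X)) := not_subsingleton_iff_nontrivial.1 h
  obtain ⟨w, hw⟩ := exists_ne (0 : N.presheaf.stalk (genericPoint X))
  obtain ⟨v, hv⟩ := QCoh.stalkLin_surjective q (genericPoint X) w
  let π : ∀ j : Fin r, FlatMod.freeMod X r ⟶ Coh.structureModule X := fun j =>
    Sigma.desc fun i => if i = j then 𝟙 _ else 0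
  have hid : 𝟙 (FlatMod.freeMod X r) =
      ∑ j, π j ≫ Sigma.ι (fun _ : Fin r => Coh.structureModule X) j := by
    refine Sigma.hom_ext _ _ fun i => ?_
    rw [Category.comp_id, Preadditive.comp_sum, Finset.sum_eq_single i]
    · simp [π]
    · intro j _ hj
      simp [π, Ne.symm hj]
    · simp
  have hq : q = ∑ j, G.map (π j) ≫ (G.map (Sigma.ι (fun _ : Fin r => Coh.structureModule X) j) ≫ q) := by
    conv_lhs => rw [show q = G.map (𝟙 _) ≫ q by rw [G.map_id, Category.id_comp], hid, G.map_sum,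
      Preadditive.sum_comp]
    simp [Category.assoc]
  let S := OX.stalk (X := X) (genericPoint X)
  by_contra hcon
  push Not at hcon
  apply hw
  rw [← hv]
  show ((S.map q).hom) v = 0
  rw [hq, S.map_sum, ModuleCat.hom_sum, LinearMap.sum_apply]
  refine Finset.sum_eq_zero fun j _ => ?_
  have h0 := hcon (CohB1.tensorPow M n₀) hMn (e.inv ≫ G.map (Sigma.ι (fun _ : Fin r => Coh.structureModule X) j) ≫ q)
    ((S.map e.hom).hom ((S.map (G.map (π j))).hom v))
  have h1 : (S.map e.hom ≫ S.map (e.inv ≫ G.map (Sigma.ι (fun _ : Fin r => Coh.structureModule X) j) ≫ q)).hom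
      ((S.map (G.map (π j))).hom v) = 0 := h0
  rw [← S.map_comp, Iso.hom_inv_id_assoc] at h1
  rw [S.map_comp]
  exact h1

include k in
theorem generic_notMem {S : Set X} (hdim : topologicalKrullDim X = ((2 : ℕ) : WithBot ℕ∞))
    (hN : Pi1.IsNormalScheme X) (h : DimLT S 2) : genericPoint X ∉ closure S ∨ ¬ IsClosed S := by
  by_contra hcon
  push Not at hcon
  rw [hcon.2.closure_eq] at hcon
  have hS : S = Set.univ := Set.univ_subset_iff.1 (by
    rw [← (genericPoint_spec X).def]; exact hcon.2.closure_subset_iff.2 (Set.singleton_subset_iff.2 hcon.1))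
  have hO : Coh.IsCoh (Coh.structureModule X) := Kleiman.isCoh_O k
  refine Hilb20.isPure_not_dimLT (DecSh20.isPure_of_isInvertible (k := k) hN hdim Euler.isInvertible_structure)
    (𝟙 _) hO (fun h0 => ?_) (h.mono (hS ▸ Set.subset_univ _))
  exact (Hilb20.support_eq_empty_of_isZero h0 ▸ Kleiman.mem_support_structure (genericPoint X) :)

include k in
theorem surjective_of_dimLT {F G : X.Modules} (hdim : topologicalKrullDim X = ((2 : ℕ) : WithBot ℕ∞))
    (hN : Pi1.IsNormalScheme X) (f : F ⟶ G) (hF : Coh.IsCoh F) (hG : Coh.IsCoh G)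
    (h : DimLT (CohB1.support (cokernel f)) 2) :
    Function.Surjective (RefHull.stalkMapₗ f (genericPoint X)) := by
  haveI := Euler.isNoetherian_of_proper (X := X) k
  have hcl := QCoh.isClosed_support_of_isCoh (QCoh.isCoh_cokernel f hF hG)
  have hnot : genericPoint X ∉ CohB1.support (cokernel f) := by
    rcases generic_notMem (k := k) hdim hN h with h' | h'
    · exact fun hm => h' (subset_closure hm)
    · exact absurd hcl h'
  intro v
  haveI := QCoh.stalk_subsingleton_of_notMem hnot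
  have he := (OX.exact_iff (ShortComplex.mk f (cokernel.π f) (cokernel.condition f))).1
    (ShortComplex.exact_cokernel f) (genericPoint X)
  rw [ShortComplex.moduleCat_exact_iff] at he
  exact he v (Subsingleton.elim (α := (cokernel f).presheaf.stalk (genericPoint X)) _ _)

variable [Smooth (X ↘ Spec (CommRingCat.of k))] [PicGrp.Law X]

/-- The invariants of an invertible module with a given class. -/
theorem alpha_one_of_cls (hdim : topologicalKrullDim X = ((2 : ℕ) : WithBot ℕ∞)) {L : X.Modules}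
    (hL : CohB1.IsAmple L) (hLi : PicF.IsInvertible L)
    {G : X.Modules} (hG : PicF.IsInvertible G) (n : ℤ) (hn : PicGrp.cls G hG = PicGrp.cls L hLi ^ n)
    {pG pO : ℚ[X]} (hpG : ShStab.IsHilbPoly k X L G pG)
    (hpO : ShStab.IsHilbPoly k X L (Coh.structureModule X) pO) :
    alpha 1 pG = alpha 1 pO + (n : ℚ) * alpha 2 pO := by
  haveI := Euler.isNoetherian_of_proper (X := X) k
  have hu : DimLT (Set.univ : Set X) 3 := Kleiman.dimLT_univ hdim.le
  have hdeg : ∀ {E : X.Modules} {P : ℚ[X]}, Coh.IsCoh E → ShStab.IsHilbPoly k X L E P → P.degree < (3 : ℕ) :=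
    fun hE hP => Hilb20.degree_lt_of_dimLT hLi hE (hu.mono (Set.subset_univ _)) hP
  rcases n with j | j
  · have h : PicGrp.cls G hG =
        PicGrp.cls (CohB1.tensorPow L j) (Ample.isInvertible_tensorPow hLi j) := by
      rw [Kodaira.cls_pow hLi, hn, Int.ofNat_eq_natCast, zpow_natCast]
    obtain ⟨e⟩ := (PicGrp.cls_eq_cls_iff _ _).1 h
    have hp := Hilb20.isHilbPoly_congr ((OX.tensorUnitLeftIso (CohB1.tensorPow L j)) ≪≫ e.symm)
      (DecSh20.isHilbPoly_twist hpO j)
    obtain ⟨-, a1⟩ := DecSh20.alpha_comp_shift (hdeg (Kleiman.isCoh_O k) hpO) (j : ℚ)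
    rw [Hilb20.isHilbPoly_unique hpG hp, a1]
    push_cast; rfl
  · have hT := Ample.isInvertible_tensorPow hLi (j + 1)
    have h : PicGrp.cls G hG * PicGrp.cls (CohB1.tensorPow L (j + 1)) hT = 1 := by
      rw [Kodaira.cls_pow hLi, hn, zpow_negSucc, inv_mul_cancel]
    obtain ⟨e⟩ := (PicGrp.cls_mul_cls_eq_one_iff hG hT).1 h
    have hp := Hilb20.isHilbPoly_congr e (DecSh20.isHilbPoly_twist hpG (j + 1))
    obtain ⟨a2, a1⟩ := DecSh20.alpha_comp_shift (hdeg (Euler.isCoh_of_isInvertible hG) hpG) ((j + 1 : ℕ) : ℚ)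
    rw [← Hilb20.isHilbPoly_unique hpO hp] at a1 a2
    rw [a1, a2, Int.cast_negSucc]
    push_cast
    ring

/-- The linear coefficient vanishes when the canonical module is trivial. -/
theorem coeff_one_eq_zero {r : ℕ} (ι : X ⟶ CohB1.ProjSpace r k) [IsClosedImmersion ι]
    (hι : ι ≫ CohB1.ProjSpace.toSpec r k = X ↘ Spec (CommRingCat.of k)) [IsAlgClosed k]
    (hdim : topologicalKrullDim X = ((2 : ℕ) : WithBot ℕ∞))
    (hK : ExtPow.IsExtPow 2 (Omega.sheaf (X ↘ Spec (CommRingCat.of k))) (Coh.structureModule X))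
    {L : X.Modules} (hL : CohB1.IsAmple L)
    {pO : ℚ[X]} (hpO : ShStab.IsHilbPoly k X L (Coh.structureModule X) pO) : pO.coeff 1 = 0 := by
  haveI := Euler.isNoetherian_of_proper (X := X) k
  haveI := DimCut.smoothOfRelativeDimension (X ↘ Spec (CommRingCat.of k)) 2 hdim
  obtain ⟨M, hMi, hM⟩ := VA.exists_inverse hL.1
  have hu : DimLT (Set.univ : Set X) 3 := Kleiman.dimLT_univ hdim.le
  have hMc := Euler.isCoh_of_isInvertible hMi
  obtain ⟨u⟩ : Nonempty (CohB1.tensorMod L M ≅ Coh.structureModule X) :=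
    (Cube.clsMod_eq_one_iff (Ample.isInvertible_tensorMod hL.1 hMi)).1 (by
      rw [Cube.clsMod_tensorMod hL.1 hMi, hM, mul_inv_cancel])
  have hLf : FlatMod.IsFinLocFree L := FinCov.isFinLocFree_of_rank (Euler.isFinLocFreeOfRank_one' hL.1)
  haveI : DCoh.HasSheafHom L := LocFreeHom.hasSheafHom L
  haveI := FundIso27.isEquivalence_tensor hL.1
  haveI : ((DCoh.tensorBi (X := X)).obj L).IsEquivalence :=
    Functor.isEquivalence_of_iso ((OX.tensorBraiding (X := X)).app L)
  let e : (DCoh.sheafHom L).obj (Coh.structureModule X) ≅ M :=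
    (DCoh.sheafHom L).mapIso u.symm ≪≫ (asIso ((DCoh.sheafHomAdj L).unit.app M)).symm
  have hh : ∀ p, p ≤ 2 → Module.finrank k (Coh.HH X L p) = Module.finrank k (Coh.HH X M (2 - p)) := by
    intro p hp
    obtain ⟨d⟩ := DualSm27.nonempty_dual_HH k r 2 X ι hι _ hK L hLf p hp
    rw [← Subspace.dual_finrank_eq, d.finrank_eq, (SerrePn27.hhMapEquiv (k := k) e (2 - p)).finrank_eq]
  have hLM : Curv2.euler k X L = Curv2.euler k X M := by
    rw [SurfRR28.euler_eq_three_terms k (hd := hdim.le) hL (Euler.isCoh_of_isInvertible hL.1),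
      SurfRR28.euler_eq_three_terms k (hd := hdim.le) hL hMc, hh 0 (by omega), hh 1 (by omega), hh 2 le_rfl]
    ring
  obtain ⟨pM, hpM⟩ := Hilb20.exists_isHilbPoly (k := k) hL hMc (hu.mono (Set.subset_univ _))
  obtain ⟨t⟩ : Nonempty (ShStab.twist X L M 1 ≅ Coh.structureModule X) :=
    ⟨(DecSh20.nonempty_twist_one L M).some ≪≫ GrTilde.tensorModComm (X := X) _ _ ≪≫ u⟩
  have hshift := Hilb20.isHilbPoly_unique hpO (Hilb20.isHilbPoly_congr t (DecSh20.isHilbPoly_twist hpM 1))
  have h1 : (Curv2.euler k X L : ℚ) = pO.eval 1 := by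
    obtain ⟨s⟩ : Nonempty (ShStab.twist X L (Coh.structureModule X) 1 ≅ L) :=
      ⟨(DecSh20.nonempty_twist_one L _).some ≪≫ OX.tensorUnitLeftIso L⟩
    rw [← Euler.euler_of_iso k s, hpO 1]
    simp
  have h0 : (Curv2.euler k X M : ℚ) = pM.eval 0 := by
    rw [← Euler.euler_of_iso k (DecSh20.twistZeroIso L M), hpM 0]
    simp
  have hd := Hilb20.degree_lt_of_dimLT hL.1 (Kleiman.isCoh_O k) (hu.mono (Set.subset_univ _)) hpO
  have he : pM.eval 0 = pO.eval (-1) := by
    rw [hshift, eval_comp]; simp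
  have : pO.eval 1 = pO.eval (-1) := by rw [← h1, ← he, ← h0, hLM]
  by_cases hz : pO = 0
  · simp [hz]
  rw [eval_eq_sum_range' (n := 3) ((natDegree_lt_iff_degree_lt hz).2 hd),
    eval_eq_sum_range' (n := 3) ((natDegree_lt_iff_degree_lt hz).2 hd)] at this
  simp [Finset.sum_range_succ] at this
  linarith

end GrothLib.K3Ext28
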