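import Groth.Agent.Lib.K3Ext28.Basic
import Groth.Agent.Lib.DecSh20.MuKernel
import Groth.Agent.Lib.Euler.Rank

/-!
# Rank, bidual and extensions on a surface
-/

set_option autoImplicit false
set_option linter.style.haveILetI false
set_option linter.unusedSectionVars false
set_option maxHeartbeats 1000000
set_option backward.isDefEq.respectTransparency.types false

universe u

open CategoryTheory CategoryTheory.Limits AlgebraicGeometry Polynomial
open GrothLib.Snapper (DimLT)
open GrothLib.Ref1 (sp hη Gen)
open GrothLib.Hilb20 (alpha_add)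
open StabCat (alpha)

noncomputable section

namespace GrothLib.K3Ext28

variable {X : Scheme.{u}} {k : Type u} [Field k] [X.Over (Spec (CommRingCat.of k))]
  [IsProper (X ↘ Spec (CommRingCat.of k))] [IsIntegral X]

attribute [local irreducible] Curv2.euler

include k in
/-- A map out of an invertible module which is non-zero at the generic point is a monomorphism. -/
theorem mono_of_generic_ne_zero (hN : Pi1.IsNormalScheme X)
    (hdim : topologicalKrullDim X = ((2 : ℕ) : WithBot ℕ∞)) {M N : X.Modules} (hM : PicF.IsInvertible M)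
    (hNc : Coh.IsCoh N) (q : M ⟶ N) {v₀ : M.presheaf.stalk (genericPoint X)}
    (hv₀ : RefHull.stalkMapₗ q (genericPoint X) v₀ ≠ 0) : Mono q :=
  haveI := Euler.isNoetherian_of_proper (X := X) k
  Preadditive.mono_of_kernel_zero <| by
    by_contra hne
    have hK0 : ¬ IsZero (kernel q) := fun hz => hne (hz.eq_zero_of_src _)
    have hb := (DecSh20.rankOne_mono (k := k) hN hdim hM (kernel.ι q)
      (QCoh.isCoh_kernel q (Euler.isCoh_of_isInvertible hM) hNc) hK0).1
    apply hv₀
    obtain ⟨w, rfl⟩ := hb.2 v₀
    rw [← LinearMap.comp_apply, ← Ref1.stalkMapₗ_comp, kernel.condition]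
    show ((OX.stalk (genericPoint X)).map (0 : kernel q ⟶ N)).hom w = _
    rw [Functor.map_zero]
    rfl

include k in
theorem mono_of_ne_zero (hN : Pi1.IsNormalScheme X) (hdim : topologicalKrullDim X = ((2 : ℕ) : WithBot ℕ∞))
    {M N : X.Modules} (hM : PicF.IsInvertible M) (hNc : Coh.IsCoh N) (htf : TorSh.IsTorsionFree N)
    (q : M ⟶ N) (hq : q ≠ 0) : Mono q := by
  haveI := hNc.1
  by_contra hm
  refine hq (Ref1.hom_ext_generic (fun x => by haveI := htf x; exact Ref1.sp_injective N x)
    (LinearMap.ext fun v => ?_))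
  have h := not_not.1 fun h => hm (mono_of_generic_ne_zero (k := k) hN hdim hM hNc q (v₀ := v) h)
  rw [h]
  show 0 = ((OX.stalk (genericPoint X)).map (0 : M ⟶ N)).hom v
  rw [Functor.map_zero]
  rfl

include k in
theorem isReflexive_of_locFree {r : ℕ} {V : X.Modules} (hV : FlatMod.IsFinLocFreeOfRank r V) :
    RefHull.IsReflexive V := by
  haveI := Euler.isNoetherian_of_proper (X := X) k
  refine (HomSh.isReflexive_iff (HomSh.hasRel_of_isCoh
    (Euler.isCoh_of_isFinLocFree (FinCov.isFinLocFree_of_rank hV)))).2 fun x => ?_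
  obtain ⟨U, s, hx, hs⟩ := FinCov.exists_frame_nhd_of_rank hV x
  obtain ⟨b⟩ := Euler.stalk_basis_of_frame hs hx
  haveI : Module.Free (X.presheaf.stalk x) (V.presheaf.stalk x) := Module.Free.of_basis b
  haveI : Module.Finite (X.presheaf.stalk x) (V.presheaf.stalk x) := Module.Finite.of_basis b
  exact (inferInstance : Module.IsReflexive (X.presheaf.stalk x) (V.presheaf.stalk x))

variable [Smooth (X ↘ Spec (CommRingCat.of k))]

include k in
/-- The bidual of a torsion-free module of rank one is invertible. -/
theorem bidual_facts (hdim : topologicalKrullDim X = ((2 : ℕ) : WithBot ℕ∞)) {N : X.Modules}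
    (hNc : Coh.IsCoh N) (htf : TorSh.IsTorsionFree N) {e : N.presheaf.stalk (genericPoint X)}
    (he : Gen N (genericPoint X) e) :
    PicF.IsInvertible (RefHull.ddual N) ∧ Mono (RefHull.bidualMap N) ∧
      (∀ x : X, ¬ (2 : WithBot ℕ∞) ≤ ringKrullDim (X.presheaf.stalk x) →
        Function.Bijective (RefHull.stalkMapₗ (RefHull.bidualMap N) x)) ∧
      DimLT (CohB1.support (cokernel (RefHull.bidualMap N))) 1 := by
  haveI := Euler.isNoetherian_of_proper (X := X) k
  haveI := hNc.1
  haveI : ∀ x : X, Module.IsTorsionFree (X.presheaf.stalk x) (N.presheaf.stalk x) := htf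
  have hN := Hilb20.isNormalScheme_of_smooth (X := X) k
  have hrel := HomSh.hasRel_of_isCoh hNc
  have hR := Ref1.isRef1_ddual hrel he
  have hinv : PicF.IsInvertible (RefHull.ddual N) := FacDiv.isInvertible_of_ufd hN hR fun x => by
    haveI : IsDomain (X.presheaf.stalk x) := (hN x).1
    haveI := WeilExt.isRegularLocalRing_stalk_of_smooth (X ↘ Spec (CommRingCat.of k))
      (WeilExt.isRegularLocalRing_stalk_spec k) x
    exact RegUFD.ufd_of_isRegularLocalRing _
  have hm : Mono (RefHull.bidualMap N) :=
    (OX.mono_iff _).2 fun x => (ModuleCat.mono_iff_injective _).2 (Ref1.stalkMap_bidual_injective hrel x)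
  have hb : ∀ x : X, ¬ (2 : WithBot ℕ∞) ≤ ringKrullDim (X.presheaf.stalk x) →
      Function.Bijective (RefHull.stalkMapₗ (RefHull.bidualMap N) x) := by
    intro x hlt
    have h1 : ringKrullDim (X.presheaf.stalk x) ≤ 1 := by_contra fun h => hlt (Ref1.two_le_of_not_le_one h)
    by_cases h0 : x = genericPoint X
    · subst h0
      exact (HomSh.bijective_bidual_iff hrel _).2 (FacDiv.isReflexiveAt_of_gen he)
    · haveI := hrel.span_stalk x
      haveI : IsDomain (X.presheaf.stalk x) := (hN x).1
      haveI := Ref1.isDiscreteValuationRing_of_dim_one hN (DecSh20.dim_eq_one_of_le_one h1 h0)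
      obtain ⟨t, ht⟩ := Ref1.exists_gen_of_pid (Ref1.sp_injective N x) he
      exact (HomSh.bijective_bidual_iff hrel _).2 (FacDiv.isReflexiveAt_of_gen ht)
  refine ⟨hinv, hm, hb, DecSh20.dimLT_one_of_forall_two_le (k := k) hdim fun x hx => ?_⟩
  by_contra hlt
  exact QCoh.notMem_support_cokernel_of_surjective _ (hb x hlt).2 hx

variable [PicGrp.Law X]

include k in
/-- The leading coefficient is the generic rank times that of the structure sheaf. -/
theorem alpha_two_eq_grank (hdim : topologicalKrullDim X = ((2 : ℕ) : WithBot ℕ∞)) {L : X.Modules}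
    (hL : CohB1.IsAmple L) (hLi : PicF.IsInvertible L)
    (hgen : ∀ c : PicLoc.PicSet X, ∃ n : ℤ, c = PicGrp.cls L hLi ^ n)
    {pO : ℚ[X]} (hpO : ShStab.IsHilbPoly k X L (Coh.structureModule X) pO) :
    ∀ (r : ℕ) (N : X.Modules), Coh.IsCoh N → Euler.grank N = r →
      ∀ pN : ℚ[X], ShStab.IsHilbPoly k X L N pN → alpha 2 pN = r * alpha 2 pO := by
  haveI := Euler.isNoetherian_of_proper (X := X) k
  have hu : DimLT (Set.univ : Set X) 3 := Kleiman.dimLT_univ hdim.le
  intro r
  induction r with
  | zero =>
    intro N hN hr pN hpN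
    have hnot : genericPoint X ∉ CohB1.support N := by
      intro hmem
      letI : Field (X.presheaf.stalk (genericPoint X)) := CurvePoints.isField_stalk_genericPoint.toField
      haveI := Euler.stalk_finite hN (genericPoint X)
      exact hmem (Module.finrank_zero_iff.1 hr)
    rw [Hilb20.alpha_eq_zero (d := 2) hL hN (DecSh20.dimLT_two_of_notMem (k := k) hdim hnot) hpN]
    simp
  | succ r ih =>
    intro N hN hr pN hpN
    have hmem : genericPoint X ∈ CohB1.support N := by
      intro hs
      haveI : Subsingleton (N.presheaf.stalk (genericPoint X)) := hs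
      rw [Euler.grank, Module.finrank_zero_of_subsingleton] at hr
      omega
    obtain ⟨M, hM, q, v, hv⟩ := exists_hom_generic_ne_zero (k := k) hL hN hmem
    haveI := mono_of_generic_ne_zero (k := k) (Hilb20.isNormalScheme_of_smooth (X := X) k) hdim hM hN q hv
    have hMc := Euler.isCoh_of_isInvertible hM
    obtain ⟨pM, hpM⟩ := Hilb20.exists_isHilbPoly (k := k) hL hMc (hu.mono (Set.subset_univ _))
    obtain ⟨hQ, -, pQ, hpQ, e⟩ := Hilb20.exists_quotient_poly hL hMc hN q hpM hpN
    have hadd := Euler.grank_additive (DecSh20.shortExact_cokernel q) hN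
    have hM1 : Euler.grank M = 1 := Euler.grank_of_locFree (Euler.isFinLocFreeOfRank_one' hM)
    replace hadd : Euler.grank N = Euler.grank M + Euler.grank (cokernel q) := hadd
    rw [hr, hM1] at hadd
    rw [e, alpha_add, ih _ hQ (by omega) pQ hpQ,
      (DecSh20.alpha_invertible hdim hL hLi hgen hM hpM hpO).1]
    push_cast; ring

/-- A module of generic rank one has a generator at the generic point. -/
theorem exists_gen_of_grank_one {N : X.Modules} (h : Euler.grank N = 1) :
    ∃ e, Gen N (genericPoint X) e := by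
  letI : Field (X.presheaf.stalk (genericPoint X)) := CurvePoints.isField_stalk_genericPoint.toField
  obtain ⟨e, he, hspan⟩ := finrank_eq_one_iff'.1 h
  exact ⟨e, fun a b hab => smul_left_injective _ he hab, fun w => hspan w⟩

end GrothLib.K3Ext28
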