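import Groth.Agent.Lib.K3Ext28.Saturate
import Groth.Agent.Lib.HilbArt9.Main
import Groth.Agent.Lib.SerrePn27.ExtHH

/-!
# Vanishing of `H¹` of invertible modules on a K3 surface of Picard number one
-/

set_option autoImplicit false
set_option linter.style.haveILetI false
set_option linter.unusedSectionVars false
set_option maxHeartbeats 1000000
set_option backward.isDefEq.respectTransparency.types false

universe u

open CategoryTheory CategoryTheory.Limits AlgebraicGeometry Polynomial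
open GrothLib.Snapper (DimLT)
open GrothLib.Ref1 (sp hη Gen)
open GrothLib.Hilb20 (alpha_add)
open StabCat (alpha)
open CategoryTheory.Abelian (Ext)

noncomputable section

namespace GrothLib.K3Ext28

variable {X : Scheme.{u}} {k : Type u} [Field k] [IsAlgClosed k] [X.Over (Spec (CommRingCat.of k))]
  [IsProper (X ↘ Spec (CommRingCat.of k))] [IsIntegral X] [Smooth (X ↘ Spec (CommRingCat.of k))]
  [PicGrp.Law X]

attribute [local irreducible] Curv2.euler

theorem stalkMap_zero {M N : X.Modules} (x : X) (v : M.presheaf.stalk x) :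
    RefHull.stalkMapₗ (0 : M ⟶ N) x v = 0 := by
  show ((OX.stalk x).map (0 : M ⟶ N)).hom v = _
  rw [Functor.map_zero]
  rfl

theorem not_isZero_structure : ¬ IsZero (Coh.structureModule X) := fun h =>
  (Hilb20.support_eq_empty_of_isZero h ▸ Kleiman.mem_support_structure (genericPoint X) :)

include k in
/-- The cokernel of a monomorphism of invertible modules has no punctual submodules. -/
theorem pure_coker (hdim : topologicalKrullDim X = ((2 : ℕ) : WithBot ℕ∞)) {M₁ M₂ : X.Modules}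
    (h₁ : PicF.IsInvertible M₁) (h₂ : PicF.IsInvertible M₂) (s : M₁ ⟶ M₂) [Mono s]
    (W : X.Modules) (w : W ⟶ cokernel s) [Mono w] (hW : Coh.IsCoh W) (hd : DimLT (CohB1.support W) 1) :
    IsZero W := by
  haveI := Euler.isNoetherian_of_proper (X := X) k
  have hN := Hilb20.isNormalScheme_of_smooth (X := X) k
  have hM₁ := Euler.isCoh_of_isInvertible h₁
  have hM₂ := Euler.isCoh_of_isInvertible h₂
  haveI := hM₁.1
  haveI := hM₂.1
  let π := cokernel.π s
  let J := pullback π w
  let t : M₁ ⟶ J := pullback.lift s 0 (by simp [π])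
  have ht : t ≫ pullback.fst π w = s := pullback.lift_fst _ _ _
  have ht2 : t ≫ pullback.snd π w = 0 := pullback.lift_snd _ _ _
  haveI : Mono t := by
    haveI : Mono (t ≫ pullback.fst π w) := by rw [ht]; infer_instance
    exact mono_of_mono t (pullback.fst π w)
  haveI : Epi (pullback.snd π w) := inferInstance
  have hsp₁ := Ref1.injective_sp_of_isRef1 hN (FacDiv.isRef1_of_isInvertible h₁)
  have hsp₂ := Ref1.injective_sp_of_isRef1 hN (FacDiv.isRef1_of_isInvertible h₂)
  have hspJ : ∀ x, Function.Injective (sp J (hη x)) := fun x v v' h => by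
    apply QCoh.stalkLin_injective (pullback.fst π w) x
    apply hsp₂ x
    show sp M₂ (hη x) (RefHull.stalkMapₗ (pullback.fst π w) x v) =
      sp M₂ (hη x) (RefHull.stalkMapₗ (pullback.fst π w) x v')
    rw [← Ref1.stalkMapₗ_sp, ← Ref1.stalkMapₗ_sp, h]
  have hcl := QCoh.isClosed_support_of_isCoh hW
  have hsurj : ∀ x : X, x ∉ CohB1.support W → Function.Surjective (RefHull.stalkMapₗ t x) := by
    intro x hx v
    haveI := QCoh.stalk_subsingleton_of_notMem hx
    have he := (OX.exact_iff (ShortComplex.mk s π (cokernel.condition s))).1 (ShortComplex.exact_cokernel s) x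
    rw [ShortComplex.moduleCat_exact_iff] at he
    have h0 : RefHull.stalkMapₗ π x (RefHull.stalkMapₗ (pullback.fst π w) x v) = 0 := by
      rw [← LinearMap.comp_apply, ← Ref1.stalkMapₗ_comp, pullback.condition, Ref1.stalkMapₗ_comp,
        LinearMap.comp_apply,
        Subsingleton.elim (α := W.presheaf.stalk x) (RefHull.stalkMapₗ (pullback.snd π w) x v) 0, map_zero]
    obtain ⟨u, hu⟩ := he _ h0
    refine ⟨u, QCoh.stalkLin_injective (pullback.fst π w) x ?_⟩
    show RefHull.stalkMapₗ (pullback.fst π w) x (RefHull.stalkMapₗ t x u) = _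
    rw [← LinearMap.comp_apply, ← Ref1.stalkMapₗ_comp, ht]
    exact hu
  have hη' : genericPoint X ∉ CohB1.support W := fun hmem => by
    rcases generic_notMem (k := k) hdim hN (fun l hl => (hd l hl).trans_le one_le_two) with h | h
    · exact h (subset_closure hmem)
    · exact h hcl
  let E := LinearEquiv.ofBijective (RefHull.stalkMapₗ t (genericPoint X))
    ⟨QCoh.stalkLin_injective t _, hsurj _ hη'⟩
  obtain ⟨ψ, hψ⟩ := Ref1.exists_hom_of_dim_one (G := J) hN (HomSh.hasRel_of_isCoh hM₁)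
      (FacDiv.isRef1_of_isInvertible h₁).2.1 E.symm.toLinearMap fun x hx v => by
    obtain ⟨c, hc⟩ := hsurj x (fun hmem => by
      have := Hilb20.dim_stalk_two_le (X ↘ Spec (CommRingCat.of k)) hdim hcl rfl hd hmem
      rw [hx] at this
      exact absurd this (by decide)) v
    refine ⟨c, E.injective ?_⟩
    show RefHull.stalkMapₗ t _ (sp _ (hη x) c) = E (E.symm (sp J (hη x) v))
    rw [E.apply_symm_apply, Ref1.stalkMapₗ_sp, hc]
  have h1 : ψ ≫ t = 𝟙 J := Ref1.hom_ext_generic hspJ (LinearMap.ext fun v => by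
    rw [Ref1.stalkMapₗ_comp, Ref1.stalkMapₗ_id, LinearMap.comp_apply, hψ]
    exact E.apply_symm_apply v)
  have h0 : pullback.snd π w = 0 := by
    rw [← Category.id_comp (pullback.snd π w), ← h1, Category.assoc, ht2, Limits.comp_zero]
  exact IsZero.of_epi_eq_zero (pullback.snd π w) h0

variable (hdim : topologicalKrullDim X = ((2 : ℕ) : WithBot ℕ∞)) {L : X.Modules} (hL : CohB1.IsAmple L)
  (hgen : ∀ c : PicLoc.PicSet X, ∃ n : ℤ, c = PicGrp.cls L hL.1 ^ n)
  {pO : ℚ[X]} (hpO : ShStab.IsHilbPoly k X L (Coh.structureModule X) pO) (hO1 : pO.coeff 1 = 0)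

include hdim hL hpO in
omit [IsAlgClosed k] in
theorem coeff_two_pos : 0 < pO.coeff 2 := by
  haveI := Euler.isNoetherian_of_proper (X := X) k
  have hN := Hilb20.isNormalScheme_of_smooth (X := X) k
  have h := Hilb20.alpha_pos_self hL (Kleiman.isCoh_O (X := X) k) not_isZero_structure
    (DecSh20.isPure_of_isInvertible (k := k) hN hdim Euler.isInvertible_structure) hpO
  simp [StabCat.alpha] at h
  linarith

include hdim hL hpO hO1 in
theorem eval_quad (t : ℚ) : pO.eval t = pO.coeff 0 + pO.coeff 2 * t ^ 2 := by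
  haveI := Euler.isNoetherian_of_proper (X := X) k
  have hd := Hilb20.degree_lt_of_dimLT hL.1 (Kleiman.isCoh_O (X := X) k)
    ((Kleiman.dimLT_univ hdim.le).mono (Set.subset_univ _)) hpO
  have hz : pO ≠ 0 := fun h => by
    have := coeff_two_pos hdim hL hpO
    simp [h] at this
  rw [eval_eq_sum_range' (n := 3) ((natDegree_lt_iff_degree_lt hz).2 hd)]
  simp [Finset.sum_range_succ, hO1]

include hdim hL hpO in
omit [IsAlgClosed k] in
/-- The Hilbert polynomial of an invertible module with a given class. -/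
theorem poly_of_cls {G : X.Modules} (hG : PicF.IsInvertible G) (n : ℤ)
    (hn : PicGrp.cls G hG = PicGrp.cls L hL.1 ^ n) {pG : ℚ[X]} (hpG : ShStab.IsHilbPoly k X L G pG) :
    pG = pO.comp (Polynomial.X + C (n : ℚ)) := by
  haveI := Euler.isNoetherian_of_proper (X := X) k
  rcases n with j | j
  · have h : PicGrp.cls G hG =
        PicGrp.cls (CohB1.tensorPow L j) (Ample.isInvertible_tensorPow hL.1 j) := by
      rw [Kodaira.cls_pow hL.1, hn, Int.ofNat_eq_natCast, zpow_natCast]
    obtain ⟨e⟩ := (PicGrp.cls_eq_cls_iff _ _).1 h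
    rw [Hilb20.isHilbPoly_unique hpG (Hilb20.isHilbPoly_congr
      ((OX.tensorUnitLeftIso (CohB1.tensorPow L j)) ≪≫ e.symm) (DecSh20.isHilbPoly_twist hpO j))]
    simp
  · have hT := Ample.isInvertible_tensorPow hL.1 (j + 1)
    have h : PicGrp.cls G hG * PicGrp.cls (CohB1.tensorPow L (j + 1)) hT = 1 := by
      rw [Kodaira.cls_pow hL.1, hn, zpow_negSucc, inv_mul_cancel]
    obtain ⟨e⟩ := (PicGrp.cls_mul_cls_eq_one_iff hG hT).1 h
    have hp := Hilb20.isHilbPoly_congr e (DecSh20.isHilbPoly_twist hpG (j + 1))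
    rw [Hilb20.isHilbPoly_unique hpO hp, comp_assoc, add_comp, X_comp, C_comp, Int.cast_negSucc, add_assoc,
      ← C_add]
    simp

include hdim hL hpO hgen hO1 in
/-- The numerical property of a non-zero section of a pure sheaf of multiplicity `L²`. -/
theorem section_bound {Q : X.Modules} (hQ : Coh.IsCoh Q)
    (hpure : ∀ (W : X.Modules) (w : W ⟶ Q), Mono w → Coh.IsCoh W → DimLT (CohB1.support W) 1 → IsZero W)
    (hQd : DimLT (CohB1.support Q) 2) {pQ : ℚ[X]} (hpQ : ShStab.IsHilbPoly k X L Q pQ)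
    (hQ1 : alpha 1 pQ = alpha 2 pO) {a : Coh.structureModule X ⟶ Q} (ha : a ≠ 0) :
    pO.eval 0 - pO.eval (-1) ≤ pQ.eval 0 ∧ (pQ.eval 0 = pO.eval 0 - pO.eval (-1) → Epi a) := by
  haveI := Euler.isNoetherian_of_proper (X := X) k
  have hN := Hilb20.isNormalScheme_of_smooth (X := X) k
  have hu : DimLT (Set.univ : Set X) 3 := Kleiman.dimLT_univ hdim.le
  have hu' : ∀ E : X.Modules, DimLT (CohB1.support E) 3 := fun E => hu.mono (Set.subset_univ _)
  have hOc : Coh.IsCoh (Coh.structureModule X) := Kleiman.isCoh_O k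
  haveI := hOc.1
  have hOi : PicF.IsInvertible (Coh.structureModule X) := Euler.isInvertible_structure
  have hA : 0 < alpha 2 pO := by
    have := coeff_two_pos hdim hL hpO
    simpa [StabCat.alpha] using this
  have ha1 : alpha 1 pO = 0 := by simp [StabCat.alpha, hO1]
  obtain ⟨w', hS⟩ := QCoh.shortExact_kernel_image a
  have hJ := QCoh.isCoh_kernel a hOc hQ
  have hI := Hilb20.isCoh_image (k := k) a hOc hQ
  obtain ⟨pJ, hpJ⟩ := Hilb20.exists_isHilbPoly (k := k) hL hJ (hu' _)
  obtain ⟨pI, hpI⟩ := Hilb20.exists_isHilbPoly (k := k) hL hI (hu' _)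
  have e := Hilb20.eq_add_of_shortExact hL.1 hS hJ hOc hI hpJ hpO hpI
  obtain ⟨hC, -, pC, hpC, eC⟩ := Hilb20.exists_quotient_poly hL hI hQ (Abelian.image.ι a) hpI hpQ
  have hI0 := Hilb20.image_not_isZero ha
  have hId : DimLT (CohB1.support (Abelian.image a)) 2 :=
    hQd.mono (QCoh.support_subset_of_mono (Abelian.image.ι a))
  have hCd : DimLT (CohB1.support (cokernel (Abelian.image.ι a))) 2 :=
    hQd.mono (QCoh.support_subset_of_epi (cokernel.π (Abelian.image.ι a)))
  have i2 := Hilb20.alpha_eq_zero (d := 2) hL hI hId hpI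
  have i1 : 0 < alpha 1 pI :=
    Hilb20.alpha_pos hL hI hId (fun h => hI0 (hpure _ (Abelian.image.ι a) inferInstance hI h)) hpI
  have cnn := Hilb20.alpha_nonneg (d := 1) hL hC hCd hpC
  have eC1 := congrArg (alpha 1) eC
  rw [alpha_add, hQ1] at eC1
  have e2 := congrArg (alpha 2) e
  rw [alpha_add, i2, add_zero] at e2
  have hJ0 : ¬ IsZero (kernel a) := fun hz => by
    rw [Hilb20.isHilbPoly_unique hpJ (Hilb20.isHilbPoly_of_isZero hz)] at e2
    simp [StabCat.alpha] at e2 hA
    linarith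
  obtain ⟨j, hj⟩ := DecSh20.alpha_sub hdim hL hL.1 hgen hOi (kernel.ι a) hJ hJ0 hpJ hpO
  rw [ha1, zero_add] at hj
  have e1 := congrArg (alpha 1) e
  rw [alpha_add, hj, ha1] at e1
  have hj1 : j = -1 := by
    have l1 : (j : ℚ) < 0 := by nlinarith
    have l2 : (-1 : ℚ) ≤ j := by nlinarith
    have h1 : j < 0 := by exact_mod_cast l1
    have h2 : -1 ≤ j := by exact_mod_cast l2
    omega
  subst hj1
  have c1 : alpha 1 pC = 0 := by push_cast at e1; linarith
  have hC0 : DimLT (CohB1.support (cokernel (Abelian.image.ι a))) 1 :=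
    Hilb20.dimLT_of_alpha_eq_zero hL hC hCd hpC c1
  have hJtf : TorSh.IsTorsionFree (kernel a) := DecSh20.isTorsionFree_of_mono (kernel.ι a)
    (DecSh20.isTorsionFree_of_locFree (Euler.isFinLocFreeOfRank_one' hOi))
  have hJg : Euler.grank (kernel a) = 1 := by
    have hb := (DecSh20.rankOne_mono (k := k) hN hdim hOi (kernel.ι a) hJ hJ0).1
    exact (LinearEquiv.ofBijective (RefHull.stalkMapₗ (kernel.ι a) (genericPoint X)) hb).finrank_eq.trans
      (Euler.grank_of_locFree (Euler.isFinLocFreeOfRank_one' hOi))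
  obtain ⟨g, hg⟩ := exists_gen_of_grank_one hJg
  obtain ⟨hDi, hm, -, hBd⟩ := bidual_facts (k := k) hdim hJ hJtf hg
  haveI := hm
  have hDc := Euler.isCoh_of_isInvertible hDi
  obtain ⟨pD, hpD⟩ := Hilb20.exists_isHilbPoly (k := k) hL hDc (hu' _)
  obtain ⟨hB, -, pB, hpB, eB⟩ := Hilb20.exists_quotient_poly hL hJ hDc (RefHull.bidualMap (kernel a)) hpJ hpD
  obtain ⟨l, hl⟩ := hgen (PicGrp.cls _ hDi)
  have d1 := alpha_one_of_cls hdim hL hL.1 hDi l hl hpD hpO
  rw [ha1, zero_add, eB, alpha_add, hj, Hilb20.alpha_eq_zero (d := 1) hL hB hBd hpB] at d1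
  have hl1 : l = -1 := by
    have : (l : ℚ) = ((-1 : ℤ) : ℚ) := by push_cast at d1 ⊢; nlinarith
    exact_mod_cast this
  rw [hl1] at hl
  have hD := poly_of_cls hdim hL hpO hDi (-1) hl hpD
  have hD0 : pD.eval 0 = pO.eval (-1) := by rw [hD, eval_comp]; simp
  have hc0 : ∀ p : ℚ[X], p.eval 0 = alpha 0 p := fun p => by
    simp [StabCat.alpha, coeff_zero_eq_eval_zero]
  have hB0 := Hilb20.alpha_nonneg (d := 0) hL hB hBd hpB
  have hC00 := Hilb20.alpha_nonneg (d := 0) hL hC hC0 hpC
  rw [← hc0] at hB0 hC00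
  have f1 := congrArg (Polynomial.eval (0 : ℚ)) eC
  have f2 := congrArg (Polynomial.eval (0 : ℚ)) e
  have f3 := congrArg (Polynomial.eval (0 : ℚ)) eB
  simp only [eval_add] at f1 f2 f3
  refine ⟨by linarith, fun heq => ?_⟩
  have hCz : DimLT (CohB1.support (cokernel (Abelian.image.ι a))) 0 :=
    Hilb20.dimLT_of_alpha_eq_zero hL hC hC0 hpC (by rw [← hc0]; linarith)
  have hz : IsZero (cokernel (Abelian.image.ι a)) := HilbArt9.isZero_of_support_empty fun x hx =>
    absurd (hCz (RelSeries.singleton _ x) fun _ => hx) (by simp)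
  haveI : Epi (Abelian.image.ι a) := Preadditive.epi_of_cokernel_zero (hz.eq_zero_of_tgt _)
  rw [← Abelian.image.fac a]
  exact epi_comp _ _

include hdim hL hpO hgen hO1 in
/-- Facts on the cokernel of a map between neighbouring invertible modules. -/
theorem coker_facts {M₁ M₂ : X.Modules} (h₁ : PicF.IsInvertible M₁) (h₂ : PicF.IsInvertible M₂) (l : ℤ)
    (c₁ : PicGrp.cls M₁ h₁ = PicGrp.cls L hL.1 ^ (l - 1)) (c₂ : PicGrp.cls M₂ h₂ = PicGrp.cls L hL.1 ^ l)
    (s : M₁ ⟶ M₂) [Mono s] :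
    ∃ pQ : ℚ[X], ShStab.IsHilbPoly k X L (cokernel s) pQ ∧ Coh.IsCoh (cokernel s) ∧
      DimLT (CohB1.support (cokernel s)) 2 ∧ alpha 1 pQ = alpha 2 pO ∧
      pQ.eval 0 = pO.eval (l : ℚ) - pO.eval ((l : ℚ) - 1) := by
  haveI := Euler.isNoetherian_of_proper (X := X) k
  have hu : DimLT (Set.univ : Set X) 3 := Kleiman.dimLT_univ hdim.le
  have hu' : ∀ E : X.Modules, DimLT (CohB1.support E) 3 := fun E => hu.mono (Set.subset_univ _)
  have hM₁ := Euler.isCoh_of_isInvertible h₁
  have hM₂ := Euler.isCoh_of_isInvertible h₂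
  obtain ⟨p₁, hp₁⟩ := Hilb20.exists_isHilbPoly (k := k) hL hM₁ (hu' _)
  obtain ⟨p₂, hp₂⟩ := Hilb20.exists_isHilbPoly (k := k) hL hM₂ (hu' _)
  obtain ⟨hQ, -, pQ, hpQ, e⟩ := Hilb20.exists_quotient_poly hL hM₁ hM₂ s hp₁ hp₂
  have e2 := congrArg (alpha 2) e
  rw [alpha_add, (DecSh20.alpha_invertible hdim hL hL.1 hgen h₁ hp₁ hpO).1,
    (DecSh20.alpha_invertible hdim hL hL.1 hgen h₂ hp₂ hpO).1] at e2
  have e1 := congrArg (alpha 1) e
  rw [alpha_add, alpha_one_of_cls hdim hL hL.1 h₁ _ c₁ hp₁ hpO,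
    alpha_one_of_cls hdim hL hL.1 h₂ _ c₂ hp₂ hpO] at e1
  refine ⟨pQ, hpQ, hQ, Hilb20.dimLT_of_alpha_eq_zero hL hQ (hu' _) hpQ (by linarith),
    by push_cast at e1; linarith, ?_⟩
  have f := congrArg (Polynomial.eval (0 : ℚ)) e
  rw [poly_of_cls hdim hL hpO h₁ _ c₁ hp₁, poly_of_cls hdim hL hpO h₂ _ c₂ hp₂] at f
  simp only [eval_add, eval_comp, eval_X, eval_C, zero_add] at f
  push_cast at f
  linarith

include hdim hL hpO hgen hO1 in
/-- A generically surjective endomorphism family is scalar. -/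
theorem section_eq_smul {M₁ : X.Modules} (h₁ : PicF.IsInvertible M₁)
    (c₁ : PicGrp.cls M₁ h₁ = PicGrp.cls L hL.1 ^ (-1 : ℤ)) (s : M₁ ⟶ Coh.structureModule X) [Mono s]
    (a : Coh.structureModule X ⟶ cokernel s) : ∃ c : k, a = c • cokernel.π s := by
  haveI := Euler.isNoetherian_of_proper (X := X) k
  by_cases ha : a = 0
  · exact ⟨0, by rw [ha, zero_smul]⟩
  have hOi : PicF.IsInvertible (Coh.structureModule X) := Euler.isInvertible_structure
  obtain ⟨pQ, hpQ, hQ, hQd, hQ1, hQ0⟩ := coker_facts hdim hL hgen hpO hO1 h₁ hOi 0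
    (by rw [zero_sub]; exact c₁) (by rw [zpow_zero]; exact (PicGrp.cls_eq_one_iff hOi).2 ⟨Iso.refl _⟩) s
  have hepi : ∀ v : Coh.structureModule X ⟶ cokernel s, v ≠ 0 → Epi v := fun v hv =>
    (section_bound hdim hL hgen hpO hO1 hQ (fun W w hw hWc hd => by
      haveI := hw; exact pure_coker (k := k) hdim h₁ hOi s W w hWc hd) hQd hpQ hQ1 hv).2
      (by rw [hQ0]; push_cast; rw [zero_sub])
  have hkill : ∀ v : Coh.structureModule X ⟶ cokernel s, s ≫ v = 0 := by
    intro v
    refine (OX.eq_zero_iff _).2 fun x => ModuleCat.hom_ext (LinearMap.ext fun y => ?_)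
    show RefHull.stalkMapₗ (s ≫ v) x y = 0
    rw [Ref1.stalkMapₗ_comp, LinearMap.comp_apply]
    obtain ⟨e, he⟩ := Ref1.exists_gen_of_isInvertible hOi x
    obtain ⟨r, hr⟩ := he.2 (RefHull.stalkMapₗ s x y)
    obtain ⟨z, hz⟩ := QCoh.stalkLin_surjective (cokernel.π s) x (RefHull.stalkMapₗ v x e)
    obtain ⟨c, rfl⟩ := he.2 z
    change RefHull.stalkMapₗ (cokernel.π s) x (c • e) = _ at hz
    rw [← hr, map_smul, ← hz, ← map_smul, smul_smul, mul_comm r c, ← smul_smul, map_smul]
    rw [show RefHull.stalkMapₗ (cokernel.π s) x (r • e) = 0 from ?_, smul_zero]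
    change r • e = _ at hr
    rw [hr, ← LinearMap.comp_apply, ← Ref1.stalkMapₗ_comp, cokernel.condition, stalkMap_zero]
  let f : cokernel s ⟶ cokernel s := cokernel.desc s a (hkill a)
  haveI : FiniteDimensional k (Coh.structureModule X ⟶ cokernel s) :=
    haveI := Euler.finiteDimensional_HH k hQ 0
    Module.Finite.equiv (SerrePn27.homStructureEquiv (k := k) (cokernel s)).symm
  haveI : Nontrivial (Coh.structureModule X ⟶ cokernel s) := ⟨⟨a, 0, ha⟩⟩
  obtain ⟨c, hc⟩ := Module.End.exists_eigenvalue (Linear.rightComp k (Coh.structureModule X) f)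
  obtain ⟨v, hv⟩ := hc.exists_hasEigenvector
  have hv1 : v ≫ f = c • v := hv.apply_eq_smul
  haveI := hepi v hv.2
  have hf : f = c • 𝟙 (cokernel s) := by
    rw [← cancel_epi v, hv1, Linear.comp_smul, Category.comp_id]
  refine ⟨c, ?_⟩
  rw [← cokernel.π_desc s a (hkill a)]
  show cokernel.π s ≫ f = _
  rw [hf, Linear.comp_smul, Category.comp_id]

variable {r : ℕ} (ι : X ⟶ CohB1.ProjSpace r k) [IsClosedImmersion ι]
  (hι : ι ≫ CohB1.ProjSpace.toSpec r k = X ↘ Spec (CommRingCat.of k))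
  (hK : ExtPow.IsExtPow 2 (Omega.sheaf (X ↘ Spec (CommRingCat.of k))) (Coh.structureModule X))
  (hq : Module.finrank k (Coh.HH X (Coh.structureModule X) 1) = 0)

include hdim hL hpO hgen hO1 hι hK hq in
/-- The ample generator has a section. -/
theorem exists_section : ∃ s : Coh.structureModule X ⟶ L, s ≠ 0 := by
  haveI := Euler.isNoetherian_of_proper (X := X) k
  haveI := DimCut.smoothOfRelativeDimension (X ↘ Spec (CommRingCat.of k)) 2 hdim
  haveI : HasExt.{u} X.Modules := CategoryTheory.hasExt_of_enoughInjectives X.Modules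
  have hOi : PicF.IsInvertible (Coh.structureModule X) := Euler.isInvertible_structure
  have hOc : Coh.IsCoh (Coh.structureModule X) := Kleiman.isCoh_O k
  have hLc := Euler.isCoh_of_isInvertible hL.1
  have hN := Hilb20.isNormalScheme_of_smooth (X := X) k
  obtain ⟨pL, hpL⟩ := Hilb20.exists_isHilbPoly (k := k) hL hLc
    ((Kleiman.dimLT_univ hdim.le).mono (Set.subset_univ _))
  have hA : 0 < alpha 2 pO := by
    have := coeff_two_pos hdim hL hpO
    simpa [StabCat.alpha] using this
  haveI : Subsingleton (L ⟶ Coh.structureModule X) := by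
    refine ⟨fun f g => ?_⟩
    suffices h : ∀ f : L ⟶ Coh.structureModule X, f = 0 by rw [h f, h g]
    intro f
    by_contra hf
    haveI := mono_of_ne_zero (k := k) hN hdim hL.1 hOc
      (DecSh20.isTorsionFree_of_locFree (Euler.isFinLocFreeOfRank_one' hOi)) f hf
    have h0 : ¬ IsZero L := fun h => hf (h.eq_of_src _ _)
    obtain ⟨-, h1, -⟩ := DecSh20.alpha_rankOne hN hdim hL hOi f hLc h0 hpL hpO
    rw [alpha_one_of_cls hdim hL hL.1 hL.1 1 (zpow_one _).symm hpL hpO] at h1
    push_cast at h1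
    linarith
  haveI : Subsingleton (Ext L (Coh.structureModule X) 0) := Ext.homEquiv₀.subsingleton
  obtain ⟨d⟩ := DualSm27.nonempty_ext_dual k r 2 X ι hι _ hK L hLc 0 (by omega)
  haveI := d.symm.toEquiv.subsingleton
  have h2 : Module.finrank k (Coh.HH X L 2) = 0 := by
    have h := Subspace.dual_finrank_eq (K := k) (V := Coh.HH X L (2 - 0))
    rw [Module.finrank_zero_of_subsingleton] at h
    exact h.symm
  have hO : 1 ≤ Curv2.euler k X (Coh.structureModule X) := by
    rw [SurfRR28.euler_eq_three_terms k (hd := hdim.le) hL hOc, hq, ConnH0.finrank_H0_eq_one k]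
    omega
  have e0 : (Curv2.euler k X (Coh.structureModule X) : ℚ) = pO.eval 0 := by
    rw [← Euler.euler_of_iso k (DecSh20.twistZeroIso L (Coh.structureModule X)), hpO 0]
    simp
  have e1 : (Curv2.euler k X L : ℚ) = pL.eval 0 := by
    rw [← Euler.euler_of_iso k (DecSh20.twistZeroIso L L), hpL 0]
    simp
  rw [poly_of_cls hdim hL hpO hL.1 1 (zpow_one _).symm hpL, eval_comp] at e1
  simp only [eval_add, eval_X, eval_C, zero_add, Int.cast_one] at e1
  have hpos : 1 ≤ Curv2.euler k X L := by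
    have h' : (1 : ℚ) ≤ (Curv2.euler k X L : ℚ) := by
      rw [e1, eval_quad hdim hL hpO hO1]
      rw [eval_quad hdim hL hpO hO1] at e0
      have := coeff_two_pos hdim hL hpO
      have hO' : (1 : ℚ) ≤ (Curv2.euler k X (Coh.structureModule X) : ℚ) := by exact_mod_cast hO
      nlinarith
    exact_mod_cast h'
  rw [SurfRR28.euler_eq_three_terms k (hd := hdim.le) hL hLc, h2] at hpos
  haveI : Nontrivial (Coh.HH X L 0) := Module.nontrivial_of_finrank_pos (R := k) (by omega)
  obtain ⟨s, hs⟩ := exists_ne (0 : Coh.HH X L 0)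
  exact ⟨(SerrePn27.homStructureEquiv (k := k) L).symm s,
    fun h => hs ((SerrePn27.homStructureEquiv (k := k) L).symm.map_eq_zero_iff.1 h)⟩

theorem sheafHom_inverse {F K : X.Modules} (hF : PicF.IsInvertible F) [DCoh.HasSheafHom F]
    (u : CohB1.tensorMod F K ≅ Coh.structureModule X) :
    Nonempty ((DCoh.sheafHom F).obj (Coh.structureModule X) ≅ K) := by
  haveI := FundIso27.isEquivalence_tensor hF
  haveI : ((DCoh.tensorBi (X := X)).obj F).IsEquivalence :=
    Functor.isEquivalence_of_iso ((OX.tensorBraiding (X := X)).app F)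
  exact ⟨(DCoh.sheafHom F).mapIso u.symm ≪≫ (asIso ((DCoh.sheafHomAdj F).unit.app K)).symm⟩

omit [IsAlgClosed k] in
theorem cls_tensor {A B : X.Modules} (hA : PicF.IsInvertible A) (hB : PicF.IsInvertible B)
    (hAB : PicF.IsInvertible (CohB1.tensorMod A B)) :
    PicGrp.cls (CohB1.tensorMod A B) hAB = PicGrp.cls A hA * PicGrp.cls B hB :=
  Subtype.ext (PicGrp.cls_mul_cls_val hA hB).symm

theorem nonempty_ext_HH [HasExt.{u} X.Modules] (M : X.Modules) :
    Nonempty (Ext (Coh.structureModule X) M 1 ≃ₗ[k] Coh.HH X M 1) := by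
  have hOi : PicF.IsInvertible (Coh.structureModule X) := Euler.isInvertible_structure
  have hOf := Euler.isFinLocFree_of_isInvertible hOi
  haveI := LocFreeHom.hasSheafHom (Coh.structureModule X)
  obtain ⟨a⟩ := SerrePn27.nonempty_ext_linearEquiv_HH_of_finLocFree (k := k) hOf 1 M
  haveI := FundIso27.isEquivalence_tensor hOi
  haveI : ((DCoh.tensorBi (X := X)).obj (Coh.structureModule X)).IsEquivalence :=
    Functor.isEquivalence_of_iso ((OX.tensorBraiding (X := X)).app (Coh.structureModule X))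
  let e : (DCoh.sheafHom (Coh.structureModule X)).obj M ≅ M :=
    (DCoh.sheafHom (Coh.structureModule X)).mapIso (OX.tensorUnitLeftIso M).symm ≪≫
      (asIso ((DCoh.sheafHomAdj (Coh.structureModule X)).unit.app M)).symm
  exact ⟨a ≪≫ₗ SerrePn27.hhMapEquiv (k := k) e 1⟩

include hdim hL hpO hgen hO1 hι hK hq in
theorem h1_nonpos [HasExt.{u} X.Modules] : ∀ (m : ℕ) (M : X.Modules) (hM : PicF.IsInvertible M),
    PicGrp.cls M hM = PicGrp.cls L hL.1 ^ (-(m : ℤ)) → Subsingleton (Ext (Coh.structureModule X) M 1) := by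
  haveI := Euler.isNoetherian_of_proper (X := X) k
  have hN := Hilb20.isNormalScheme_of_smooth (X := X) k
  intro m
  induction m with
  | zero =>
    intro M hM hc
    obtain ⟨e⟩ := (PicGrp.cls_eq_one_iff hM).1 (by rw [hc]; simp)
    obtain ⟨b⟩ := nonempty_ext_HH (k := k) M
    haveI := Euler.finiteDimensional_HH k (Kleiman.isCoh_O (X := X) k) 1
    haveI : Subsingleton (Coh.HH X (Coh.structureModule X) 1) := Module.finrank_zero_iff.1 hq
    exact (b ≪≫ₗ SerrePn27.hhMapEquiv (k := k) e 1).toEquiv.subsingleton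
  | succ m ih =>
    intro M hM hc
    obtain ⟨s, hs⟩ := exists_section hdim hL hgen hpO hO1 ι hι hK hq
    have hM' := Ample.isInvertible_tensorMod hL.1 hM
    have hc' : PicGrp.cls _ hM' = PicGrp.cls L hL.1 ^ (-(m : ℤ)) := by
      rw [cls_tensor hL.1 hM, hc, ← zpow_one_add]
      congr 1
      push_cast
      ring
    obtain ⟨K, hKi, hKinv⟩ := VA.exists_inverse hM
    obtain ⟨u⟩ : Nonempty (CohB1.tensorMod M K ≅ Coh.structureModule X) :=
      (Cube.clsMod_eq_one_iff (Ample.isInvertible_tensorMod hM hKi)).1 (by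
        rw [Cube.clsMod_tensorMod hM hKi, hKinv, mul_inv_cancel])
    let T := DCoh.tensorBi (X := X)
    let G := T.flip.obj M
    haveI : G.IsEquivalence := CurveMult.isEquivalence_tF u (GrTilde.tensorModComm (X := X) _ _ ≪≫ u)
    let eO : G.obj (Coh.structureModule X) ≅ M := OX.tensorUnitLeftIso _
    let t : M ⟶ CohB1.tensorMod L M := eO.inv ≫ G.map s
    have ht : t ≠ 0 := fun h => hs (G.map_eq_zero_iff.1 (by
      rw [← cancel_epi eO.inv, Limits.comp_zero]; exact h))
    haveI : Mono t := mono_of_ne_zero (k := k) hN hdim hM (Euler.isCoh_of_isInvertible hM')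
      (DecSh20.isTorsionFree_of_locFree (Euler.isFinLocFreeOfRank_one' hM')) t ht
    have hS := DecSh20.shortExact_cokernel t
    refine subsingleton_of_forall_eq 0 fun x => ?_
    haveI := ih _ hM' hc'
    obtain ⟨y, rfl⟩ := Ext.covariant_sequence_exact₁ (Coh.structureModule X) hS x
      (Subsingleton.elim _ _) (n₀ := 0) rfl
    obtain ⟨a, rfl⟩ := Ext.homEquiv₀.symm.surjective y
    change (Ext.mk₀ a).comp hS.extClass _ = 0
    rcases Nat.eq_zero_or_pos m with rfl | hm
    · obtain ⟨e⟩ := (PicGrp.cls_eq_one_iff hM').1 (by rw [hc']; simp)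
      let s₁ := t ≫ e.hom
      haveI : Mono s₁ := mono_comp _ _
      let q : cokernel s₁ ≅ cokernel t := cokernelCompIsIso t e.hom
      obtain ⟨c, hca⟩ := section_eq_smul hdim hL hgen hpO hO1 hM
        (by rw [hc]; norm_num) s₁ (a ≫ q.inv)
      have hq' : cokernel.π s₁ ≫ q.hom = e.inv ≫ cokernel.π t := by simp [q, s₁]
      have ha : a = (c • e.inv) ≫ cokernel.π t := by
        have h := congrArg (fun z => z ≫ q.hom) hca
        simp only [Category.assoc, Iso.inv_hom_id, Category.comp_id, Linear.smul_comp] at h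
        rw [h, hq', Linear.smul_comp]
      rw [ha, ← Ext.mk₀_comp_mk₀, Ext.comp_assoc_of_second_deg_zero, hS.comp_extClass, Ext.comp_zero]
    · have hA := coeff_two_pos hdim hL hpO
      obtain ⟨pQ, hpQ, hQc, hQd, hQ1, hQ0⟩ := coker_facts hdim hL hgen hpO hO1 hM hM' (-(m : ℤ))
        (by rw [hc]; congr 1; push_cast; ring) hc' t
      have ha : a = 0 := by
        by_contra ha
        have hb := (section_bound hdim hL hgen hpO hO1 hQc (fun W w hw hWc hd => by
          haveI := hw; exact pure_coker (k := k) hdim hM hM' t W w hWc hd) hQd hpQ hQ1 ha).1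
        rw [hQ0, eval_quad hdim hL hpO hO1, eval_quad hdim hL hpO hO1, eval_quad hdim hL hpO hO1,
          eval_quad hdim hL hpO hO1] at hb
        push_cast at hb
        have : (1 : ℚ) ≤ m := by exact_mod_cast hm
        nlinarith
      rw [ha, Ext.mk₀_zero, Ext.zero_comp]

include hdim hL hpO hgen hO1 hι hK hq in
/-- `H¹` of every invertible module vanishes. -/
theorem h1_eq_zero [HasExt.{u} X.Modules] (M : X.Modules) (hM : PicF.IsInvertible M) :
    Subsingleton (Ext (Coh.structureModule X) M 1) := by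
  haveI := Euler.isNoetherian_of_proper (X := X) k
  haveI := DimCut.smoothOfRelativeDimension (X ↘ Spec (CommRingCat.of k)) 2 hdim
  obtain ⟨n, hn⟩ := hgen (PicGrp.cls M hM)
  rcases le_or_gt n 0 with h | h
  · exact h1_nonpos hdim hL hgen hpO hO1 ι hι hK hq (-n).toNat M hM (by rw [hn]; congr 1; omega)
  obtain ⟨K, hKi, hKinv⟩ := VA.exists_inverse hM
  obtain ⟨u⟩ : Nonempty (CohB1.tensorMod M K ≅ Coh.structureModule X) :=
    (Cube.clsMod_eq_one_iff (Ample.isInvertible_tensorMod hM hKi)).1 (by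
      rw [Cube.clsMod_tensorMod hM hKi, hKinv, mul_inv_cancel])
  have hKc : PicGrp.cls K hKi = PicGrp.cls L hL.1 ^ (-(n.toNat : ℤ)) := by
    rw [← PicGrp.cls_inv_eq_cls hM hKi ⟨u⟩, hn, ← zpow_neg]
    congr 1
    omega
  haveI := h1_nonpos hdim hL hgen hpO hO1 ι hι hK hq n.toNat K hKi hKc
  obtain ⟨bK⟩ := nonempty_ext_HH (k := k) K
  haveI := bK.symm.toEquiv.subsingleton
  haveI := LocFreeHom.hasSheafHom M
  obtain ⟨d⟩ := DualSm27.nonempty_dual_HH k r 2 X ι hι _ hK M (Euler.isFinLocFree_of_isInvertible hM) 1 (by omega)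
  obtain ⟨e⟩ := sheafHom_inverse hM u
  haveI := (d ≪≫ₗ SerrePn27.hhMapEquiv (k := k) e (2 - 1)).toEquiv.subsingleton
  have h0 : Module.finrank k (Coh.HH X M 1) = 0 := by
    rw [← Subspace.dual_finrank_eq, Module.finrank_zero_of_subsingleton]
  haveI := Euler.finiteDimensional_HH k (Euler.isCoh_of_isInvertible hM) 1
  haveI : Subsingleton (Coh.HH X M 1) := Module.finrank_zero_iff.1 h0
  obtain ⟨bM⟩ := nonempty_ext_HH (k := k) M
  exact bM.toEquiv.subsingleton

end GrothLib.K3Ext28
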